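import Mathlib

namespace Cfsg.Agent.Lib.Helper74.FrakL

/-- Pure dihedral lemma: a finite group generated by two elements of order at most two,
without central involutions. -/
theorem dih_facts {Q : Type*} [Group Q] [Finite Q] (y y1 : Q) (hy : y * y = 1)
    (hy1 : y1 * y1 = 1) (hgen : Subgroup.closure ({y, y1} : Set Q) = ⊤)
    (hO : ∀ z : Q, z * z = 1 → (∀ q : Q, q * z = z * q) → z = 1) :
    (∀ q : Q, q * q ≠ 1 → y * q * y⁻¹ = q⁻¹) ∧
      (∀ q : Q, q * q = 1 → q * y = y * q → q = 1 ∨ q = y) := by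
  have hyinv : y⁻¹ = y := inv_eq_of_mul_eq_one_left hy
  have hy1inv : y1⁻¹ = y1 := inv_eq_of_mul_eq_one_left hy1
  have hc1 : y * (y * y1) * y⁻¹ = (y * y1)⁻¹ := by
    rw [mul_inv_rev, hyinv, hy1inv, ← mul_assoc, hy, one_mul]
  have hconj : ∀ k : ℤ, y * (y * y1) ^ k * y⁻¹ = (y * y1) ^ (-k) := by
    intro k
    rw [← conj_zpow, hc1, inv_zpow, zpow_neg]
  have hyc : ∀ k : ℤ, y * (y * y1) ^ k = (y * y1) ^ (-k) * y := by
    intro k
    have h := hconj k
    rw [hyinv] at h
    calc y * (y * y1) ^ k = y * (y * y1) ^ k * (y * y) := by rw [hy, mul_one]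
      _ = (y * (y * y1) ^ k * y) * y := by rw [mul_assoc (y * (y * y1) ^ k) y y]
      _ = (y * y1) ^ (-k) * y := by rw [h]
  -- normal form
  have hform : ∀ q : Q, ∃ k : ℤ, q = (y * y1) ^ k ∨ q = (y * y1) ^ k * y := by
    intro q
    have hq : q ∈ Subgroup.closure ({y, y1} : Set Q) := by rw [hgen]; trivial
    induction hq using Subgroup.closure_induction with
    | mem x hx =>
      rcases hx with rfl | hx
      · exact ⟨0, Or.inr (by simp)⟩
      · rw [Set.mem_singleton_iff] at hx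
        subst hx
        refine ⟨-1, Or.inr ?_⟩
        rw [zpow_neg, zpow_one, mul_inv_rev, hyinv, hy1inv, mul_assoc, hy, mul_one]
    | one => exact ⟨0, Or.inl (by simp)⟩
    | mul a b _ _ ha hb =>
      obtain ⟨i, rfl | rfl⟩ := ha <;> obtain ⟨j, rfl | rfl⟩ := hb
      · exact ⟨i + j, Or.inl (zpow_add _ _ _).symm⟩
      · exact ⟨i + j, Or.inr (by rw [← mul_assoc, zpow_add])⟩
      · refine ⟨i - j, Or.inr ?_⟩
        rw [mul_assoc, hyc, ← mul_assoc, ← zpow_add, sub_eq_add_neg]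
      · refine ⟨i - j, Or.inl ?_⟩
        rw [mul_assoc, ← mul_assoc y, hyc, mul_assoc, hy, mul_one, ← zpow_add, sub_eq_add_neg]
    | inv a _ ha =>
      obtain ⟨i, rfl | rfl⟩ := ha
      · exact ⟨-i, Or.inl (zpow_neg _ _).symm⟩
      · refine ⟨i, Or.inr ?_⟩
        rw [mul_inv_rev, hyinv, ← zpow_neg, hyc, neg_neg]
  -- the order of `c = y * y1` is odd
  have hodd : Odd (orderOf (y * y1)) := by
    by_contra hne
    rw [Nat.not_odd_iff_even] at hne
    obtain ⟨m, hm⟩ := hne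
    have hpos : 0 < orderOf (y * y1) := orderOf_pos (y * y1)
    have hzz : (y * y1) ^ m * (y * y1) ^ m = 1 := by
      rw [← pow_add, ← hm, pow_orderOf_eq_one]
    have hyz : y * (y * y1) ^ m = (y * y1) ^ m * y := by
      have h := hyc (m : ℤ)
      rw [zpow_neg, zpow_natCast] at h
      rw [h, inv_eq_of_mul_eq_one_left hzz]
    have hz1 : (y * y1) ^ m = 1 := by
      apply hO _ hzz
      intro q
      obtain ⟨k, rfl | rfl⟩ := hform q
      · rw [← zpow_natCast, ← zpow_add, ← zpow_add, add_comm]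
      · rw [mul_assoc, hyz, ← mul_assoc, ← mul_assoc, ← zpow_natCast, ← zpow_add, ← zpow_add,
          add_comm]
    have hdvd := orderOf_dvd_of_pow_eq_one hz1
    have hle := Nat.le_of_dvd (by omega) hdvd
    omega
  -- `c ^ (k + k) = 1` forces `c ^ k = 1`
  have hkill : ∀ k : ℤ, (y * y1) ^ k * (y * y1) ^ k = 1 → (y * y1) ^ k = 1 := by
    intro k hk
    obtain ⟨t, ht⟩ := hodd
    have h1 : (y * y1) ^ (k * ((2 * t + 1 : ℕ) : ℤ)) = 1 := by
      rw [zpow_mul', zpow_natCast, ← ht, pow_orderOf_eq_one, one_zpow]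
    have h2 : (y * y1) ^ ((k + k) * (t : ℤ)) = 1 := by
      rw [zpow_mul, zpow_add, hk, one_zpow]
    have h3 : k = k * ((2 * t + 1 : ℕ) : ℤ) - (k + k) * (t : ℤ) := by
      push_cast; ring
    rw [h3, zpow_sub, h1, h2, inv_one, mul_one]
  refine ⟨fun q hq => ?_, fun q hq hqy => ?_⟩
  · obtain ⟨k, rfl | rfl⟩ := hform q
    · rw [hconj, zpow_neg]
    · exfalso
      apply hq
      rw [mul_assoc, ← mul_assoc y, hyc, mul_assoc, hy, mul_one, ← zpow_add, add_neg_cancel,
        zpow_zero]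
  · obtain ⟨k, rfl | rfl⟩ := hform q
    · exact Or.inl (hkill k hq)
    · right
      have h1 : (y * y1) ^ k = (y * y1) ^ (-k) := by
        have h2 : (y * y1) ^ k * y * y = y * ((y * y1) ^ k * y) := hqy
        rw [mul_assoc, hy, mul_one, ← mul_assoc, hyc, mul_assoc, hy, mul_one] at h2
        exact h2
      have h3 : (y * y1) ^ k * (y * y1) ^ k = 1 := by
        nth_rw 2 [h1]
        rw [← zpow_add, add_neg_cancel, zpow_zero]
      rw [hkill k h3, one_mul]

end Cfsg.Agent.Lib.Helper74.FrakL
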